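import Mathlib
import Cfsg.Agent.Lib.Transfer.Sylow
import Cfsg.Agent.Lib.Transfer.Alperin
import Cfsg.Prelude.Def_Local

/-!
# Tightly embedded subgroups: basic facts, and bookkeeping for Sylow subgroups of sections
-/

set_option autoImplicit false
set_option linter.style.haveILetI false

namespace CfsgLib.TightlyEmbedded

open CfsgLib.Transfer

variable {G : Type*} [Group G]

theorem eq_bot_of_isPGroup_of_odd [Finite G] {X Y : Subgroup G} (hX : IsPGroup 2 X) (h : X ≤ Y)
    (hY : Odd (Nat.card Y)) : X = ⊥ := by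
  haveI : Fact (Nat.Prime 2) := ⟨Nat.prime_two⟩
  obtain ⟨k, hk⟩ := IsPGroup.iff_card.mp hX
  have h2 := hY.of_dvd_nat (Subgroup.card_dvd_of_le h)
  rw [hk] at h2
  have hk0 : k = 0 := by
    by_contra h0
    exact Nat.not_even_iff_odd.mpr h2 (Even.pow_of_ne_zero (by decide) h0)
  exact Subgroup.eq_bot_of_card_eq _ (by rw [hk, hk0, pow_zero])

/-- A nontrivial `2`-subgroup of `Q ∩ Q^h` forces `h` to normalize `Q`. -/
theorem mem_normalizer_of_le [Finite G] {Q : Subgroup G} (hQ : Cfsg.IsTightlyEmbedded Q)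
    {X : Subgroup G} (hX : IsPGroup 2 X) (hne : X ≠ ⊥) {h : G}
    (hle : X ≤ Q ⊓ Q.map (MulAut.conj h).toMonoidHom) : h ∈ Subgroup.normalizer (Q : Set G) := by
  by_contra hh
  exact hne (eq_bot_of_isPGroup_of_odd hX hle (hQ.2 h hh))

theorem conj [Finite G] {Q : Subgroup G} (hQ : Cfsg.IsTightlyEmbedded Q) (g : G) :
    Cfsg.IsTightlyEmbedded (Q.map (MulAut.conj g).toMonoidHom) := by
  refine ⟨by rw [card_conj_map]; exact hQ.1, fun h hh => ?_⟩
  have hh' : g⁻¹ * h * g ∉ Subgroup.normalizer (Q : Set G) := fun hc => hh (by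
    rw [normalizer_map_conj, mem_conj_map_iff]; exact hc)
  have e : Q.map (MulAut.conj g).toMonoidHom ⊓
      (Q.map (MulAut.conj g).toMonoidHom).map (MulAut.conj h).toMonoidHom =
      (Q ⊓ Q.map (MulAut.conj (g⁻¹ * h * g)).toMonoidHom).map (MulAut.conj g).toMonoidHom := by
    rw [Subgroup.map_inf _ _ _ (MulAut.conj g).injective, map_conj_mul, map_conj_mul,
      show g * (g⁻¹ * h * g) = h * g by group]
  rw [e, card_conj_map]
  exact hQ.2 _ hh'

/-- A Sylow subgroup meets a normal subgroup in a Sylow subgroup of it. -/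
theorem not_dvd_relIndex_inf [Finite G] {p : ℕ} {W N K : Subgroup G}
    (hNK : N ≤ K) (hK : K ≤ Subgroup.normalizer (N : Set G)) (hW : ¬ p ∣ W.relIndex K) :
    ¬ p ∣ (W ⊓ N).relIndex N := by
  rw [Subgroup.inf_relIndex_right]
  intro h
  refine hW (h.trans ?_)
  haveI : (N.subgroupOf K).Normal := Subgroup.normal_subgroupOf_of_le_normalizer hK
  rw [← Subgroup.relIndex_subgroupOf hNK]
  exact relIndex_dvd_index_of_normal (W.subgroupOf K) (N.subgroupOf K)

/-- Maximality of a subgroup of `p'`-index among `p`-subgroups. -/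
theorem le_of_not_dvd_relIndex [Finite G] {p : ℕ} [Fact p.Prime] {X Y H : Subgroup G}
    (hXY : X ≤ Y) (hYH : Y ≤ H) (hY : IsPGroup p Y) (hX : ¬ p ∣ X.relIndex H) : Y ≤ X := by
  rw [← Subgroup.relIndex_eq_one]
  obtain ⟨k, hk⟩ := hY.index (X.subgroupOf Y)
  rcases Nat.eq_zero_or_pos k with rfl | hk0
  · simpa [Subgroup.relIndex] using hk
  · exact absurd (((dvd_pow_self p hk0.ne').trans hk.symm.dvd).trans
      (Dvd.intro _ (Subgroup.relIndex_mul_relIndex X Y H hXY hYH))) hX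

theorem exists_sylow_between [Finite G] {p : ℕ} [Fact p.Prime] {X K : Subgroup G}
    (hXK : X ≤ K) (hX : IsPGroup p X) :
    ∃ W : Subgroup G, X ≤ W ∧ W ≤ K ∧ IsPGroup p W ∧ ¬ p ∣ W.relIndex K := by
  obtain ⟨R, hR, hRi⟩ := exists_sylow_inf_not_dvd_relIndex hXK hX
  exact ⟨(R : Subgroup G) ⊓ K, le_inf hR hXK, inf_le_right, R.2.to_le inf_le_left, hRi⟩

theorem nonempty_mulEquiv_of_sylow [Finite G] {p : ℕ} [Fact p.Prime] {X Y H : Subgroup G}
    (hXH : X ≤ H) (hYH : Y ≤ H) (hX : IsPGroup p X) (hY : IsPGroup p Y)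
    (hXi : ¬ p ∣ X.relIndex H) (hYi : ¬ p ∣ Y.relIndex H) : Nonempty (X ≃* Y) := by
  obtain ⟨h, -, hh⟩ := exists_conj_le_of_not_dvd_relIndex hYH hY hYi hXH hX
  obtain ⟨k, -, hk⟩ := exists_conj_le_of_not_dvd_relIndex hXH hX hXi hYH hY
  have h1 := Nat.le_of_dvd Nat.card_pos (Subgroup.card_dvd_of_le hk)
  rw [card_conj_map] at h1
  have e : X.map (MulAut.conj h).toMonoidHom = Y :=
    Subgroup.eq_of_le_of_card_ge hh (by rwa [card_conj_map])
  exact ⟨(X.equivMapOfInjective _ (MulAut.conj h).injective).trans (MulEquiv.subgroupCongr e)⟩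

/-- A subgroup of `A × B` meeting `A` trivially embeds in `B`. -/
theorem exists_injective_hom {A B C : Subgroup G} (hc : ∀ a ∈ A, ∀ b ∈ B, Commute a b)
    (hAB : A ⊓ B = ⊥) (hC : C ≤ A ⊔ B) (hCA : C ⊓ A = ⊥) :
    ∃ f : C →* B, Function.Injective f := by
  have comm : ∀ (a : A) (b : B), Commute (A.subtype a) (B.subtype b) :=
    fun a b => hc a a.2 b b.2
  set e := MonoidHom.noncommCoprod A.subtype B.subtype comm with he
  have hinj : Function.Injective e := by
    rw [he, MonoidHom.noncommCoprod_injective]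
    exact ⟨A.subtype_injective, B.subtype_injective,
      by rw [Subgroup.range_subtype, Subgroup.range_subtype]; exact disjoint_iff.mpr hAB⟩
  have hrange : C ≤ e.range := by
    rw [he, MonoidHom.noncommCoprod_range, Subgroup.range_subtype, Subgroup.range_subtype]
    exact hC
  let E := MonoidHom.ofInjective hinj
  refine ⟨(MonoidHom.snd A B).comp (E.symm.toMonoidHom.comp (Subgroup.inclusion hrange)),
    (injective_iff_map_eq_one _).mpr fun c hc0 => ?_⟩
  obtain ⟨⟨a, b⟩, hab⟩ : ∃ x, E.symm (Subgroup.inclusion hrange c) = x := ⟨_, rfl⟩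
  have hb : b = 1 := by
    have h0 : (E.symm (Subgroup.inclusion hrange c)).2 = 1 := hc0
    rwa [hab] at h0
  have hca : (c : G) = a := by
    have h0 := congrArg (fun y => ((E y : e.range) : G)) hab
    simpa [E, he, MonoidHom.ofInjective_apply, MonoidHom.noncommCoprod_apply, hb] using h0
  have hmem : (c : G) ∈ C ⊓ A := ⟨c.2, hca ▸ a.2⟩
  rw [hCA, Subgroup.mem_bot] at hmem
  exact Subtype.ext hmem

end CfsgLib.TightlyEmbedded
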